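import Groth.Agent.Lib.UnivOpenAt6.Basic
import Groth.Agent.Lib.OpenAt.Basic

/-!
# Universal openness along a fibre and components over discrete valuation rings
-/

set_option autoImplicit false
set_option linter.style.haveILetI false

universe u

open CategoryTheory CategoryTheory.Limits AlgebraicGeometry Topology

namespace GrothLib.UnivOpenAt6

variable {X Y : Scheme.{u}}

theorem dense_image_of_generic {T S : Type u} [TopologicalSpace T] [TopologicalSpace S] {φ : T → S}
    {Z : Set T} {ξ : T} (hξ : ξ ∈ Z) (h : ∀ s : S, φ ξ ⤳ s) : Dense (φ '' Z) := fun s =>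
  (h s).mem_closed isClosed_closure (subset_closure ⟨ξ, hξ, rfl⟩)

theorem fibre_univOpenAt_iff_components_dominate [IsLocallyNoetherian Y] (f : X ⟶ Y) [LocallyOfFiniteType f] (y : Y) :
    (∀ x : X, f x = y → EGA43.IsUnivOpenAt f x) ↔
      ∀ (A : Type u) [CommRing A] [IsDomain A] [IsDiscreteValuationRing A] (g : Spec (CommRingCat.of A) ⟶ Y),
        g (IsLocalRing.closedPoint A) = y →
        ∀ Z ∈ irreducibleComponents (↥(pullback f g) : Type u), Dense ((pullback.snd f g) '' Z) := by
  constructor
  · intro h A _ _ _ g hg Z hZ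
    obtain ⟨ξ, hξ⟩ := QuasiSober.sober hZ.1 (isClosed_of_mem_irreducibleComponents Z hZ)
    refine dense_image_of_generic hξ.mem fun s => ?_
    suffices hgen : pullback.snd f g ξ = HTop.gen (CommRingCat.of A) from
      hgen ▸ (PrimeSpectrum.le_iff_specializes (HTop.gen (CommRingCat.of A)) s).1 bot_le
    by_contra hne
    have hc : pullback.snd f g ξ = IsLocalRing.closedPoint A := PrimeSpectrum.ext
      (IsLocalRing.eq_maximalIdeal ((pullback.snd f g ξ).2.isMaximal fun hb => hne (PrimeSpectrum.ext hb)))
    obtain ⟨z, hz, hzgen⟩ := dvr_of_univOpenAt f (h (pullback.fst f g ξ) (by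
      rw [← Scheme.Hom.comp_apply, pullback.condition, Scheme.Hom.comp_apply, hc, hg])) A g ξ rfl hc
    have hsub : Z ⊆ closure {z} := fun t ht => (hz.trans (hξ.specializes ht)).mem_closure
    have hzξ : z = ξ := by
      have he : Z = closure {z} := le_antisymm hsub (hZ.2 isIrreducible_singleton.closure hsub)
      exact IsGenericPoint.eq (S := Z) he.symm hξ
    exact hne (hzξ ▸ hzgen)
  · intro h x hx
    refine univOpenAt_of_dvr f x fun A _ _ _ g hg x' _ _ => ?_
    obtain ⟨ξ, hξ⟩ := QuasiSober.sober (isIrreducible_irreducibleComponent (x := x'))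
      (isClosed_of_mem_irreducibleComponents _ (irreducibleComponent_mem_irreducibleComponents x'))
    refine ⟨ξ, hξ.specializes mem_irreducibleComponent, fun hc => ?_⟩
    have hd := h A g (hg.trans hx) _ (irreducibleComponent_mem_irreducibleComponents x')
    have hgen := hd (HTop.gen (CommRingCat.of A))
    have hsub : pullback.snd f g '' irreducibleComponent x' ⊆ {IsLocalRing.closedPoint A} := by
      rintro _ ⟨t, ht, rfl⟩
      exact ((hξ.specializes ht).map (pullback.snd f g).continuous).mem_closed
        (IsLocalRing.isClosed_singleton_closedPoint A) hc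
    have hbot := closure_minimal hsub (IsLocalRing.isClosed_singleton_closedPoint A) hgen
    exact IsDiscreteValuationRing.not_a_field A (congrArg PrimeSpectrum.asIdeal hbot).symm

theorem universallyOpen_iff_forall_univOpenAt (f : X ⟶ Y) :
    UniversallyOpen f ↔ ∀ x, EGA43.IsUnivOpenAt f x := by
  constructor
  · intro h x Y' k p _ U hU
    haveI : UniversallyOpen (pullback.snd f k) := MorphismProperty.pullback_snd f k h
    exact (pullback.snd f k).isOpenMap.image_mem_nhds hU
  · intro h
    refine ⟨fun P Y' g snd fst hsq U hU => isOpen_iff_mem_nhds.2 ?_⟩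
    rintro _ ⟨p, hp, rfl⟩
    exact OpenAt.isOpenAt_of_isPullback (h _) hsq.flip p rfl U (hU.mem_nhds hp)

theorem universallyOpen_iff_components_dominate [IsLocallyNoetherian Y] (f : X ⟶ Y) [LocallyOfFiniteType f] :
    UniversallyOpen f ↔
      ∀ (A : Type u) [CommRing A] [IsDomain A] [IsDiscreteValuationRing A] (g : Spec (CommRingCat.of A) ⟶ Y),
        ∀ Z ∈ irreducibleComponents (↥(pullback f g) : Type u), Dense ((pullback.snd f g) '' Z) := by
  rw [universallyOpen_iff_forall_univOpenAt]
  exact ⟨fun h A _ _ _ g => (fibre_univOpenAt_iff_components_dominate f _).1 (fun x _ => h x) A g rfl,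
    fun h x => (fibre_univOpenAt_iff_components_dominate f (f x)).2 (fun A _ _ _ g _ => h A g) x rfl⟩

end GrothLib.UnivOpenAt6
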