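import Groth.Agent.Lib.UnivOpenAt6.Basic
import Groth.Agent.Lib.OpenAt.Basic

/-!
# Universal openness at a point is local on the base
-/

set_option autoImplicit false
set_option linter.style.haveILetI false

universe u

open CategoryTheory CategoryTheory.Limits AlgebraicGeometry Topology

namespace GrothLib.UnivOpenAt6

variable {X Y : Scheme.{u}}

/-- A finitely presented morphism is open at a point as soon as it lifts the generizations of the image
in every neighbourhood. -/
theorem isOpenAt_of_generizations (f : X ⟶ Y) [LocallyOfFinitePresentation f] (x : X)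
    (h : ∀ U : Set X, IsOpen U → x ∈ U → ∀ y, y ⤳ f x → y ∈ f '' U) : EGA43.IsOpenAt f x := by
  intro U hU
  obtain ⟨_, ⟨(V : Y.Opens), hV, rfl⟩, hyV, -⟩ := Y.isBasis_affineOpens.exists_subset_of_mem_open
    (Set.mem_univ (f x)) isOpen_univ
  obtain ⟨_, ⟨(W : X.Opens), hW, rfl⟩, hxW, hWU⟩ := X.isBasis_affineOpens.exists_subset_of_mem_open
    (show x ∈ interior U ∩ f ⁻¹ᵁ V from ⟨mem_interior_iff_mem_nhds.2 hU, hyV⟩) (isOpen_interior.inter (f ⁻¹ᵁ V).2)
  have hWV : W ≤ f ⁻¹ᵁ V := fun a ha => (hWU ha).2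
  let φ := (f.appLE V W hWV).hom
  have hφ : φ.FinitePresentation := f.finitePresentation_appLE hV hW hWV
  have hc : IsConstructible (PrimeSpectrum.comap φ '' Set.univ) :=
    PrimeSpectrum.isConstructible_comap_image (f := φ) hφ Topology.IsConstructible.univ
  have hsq : ∀ w, f (hW.fromSpec w) = hV.fromSpec (PrimeSpectrum.comap φ w) := fun w => by
    rw [← Scheme.Hom.comp_apply, ← IsAffineOpen.SpecMap_appLE_fromSpec f hV hW hWV]
    rfl
  obtain ⟨w, hw⟩ := hW.range_fromSpec.ge hxW
  have hmem : PrimeSpectrum.comap φ '' Set.univ ∈ 𝓝 (PrimeSpectrum.comap φ w) := by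
    by_contra hnot
    have hcl : PrimeSpectrum.comap φ w ∈ closure (PrimeSpectrum.comap φ '' Set.univ)ᶜ := by
      rw [closure_compl]
      exact fun hi => hnot (mem_interior_iff_mem_nhds.1 hi)
    obtain ⟨e, he, hsp⟩ := SpecSp.exists_specializes_of_mem_closure
      (Constr.isClosed_constructibleTopology_of_isConstructible hc.compl) hcl
    obtain ⟨a, ha, hae⟩ := h W W.2 hxW (hV.fromSpec e) (by
      rw [← hw, hsq]
      exact hsp.map hV.fromSpec.continuous)
    obtain ⟨b, rfl⟩ := hW.range_fromSpec.ge ha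
    exact he ⟨b, trivial, hV.fromSpec.isOpenEmbedding.injective ((hsq b).symm.trans hae)⟩
  rw [← hw]
  refine Filter.mem_of_superset ((hsq w).symm ▸ hV.fromSpec.isOpenEmbedding.isOpenMap.image_mem_nhds hmem) ?_
  rintro _ ⟨_, ⟨b, -, rfl⟩, rfl⟩
  exact ⟨hW.fromSpec b, interior_subset (hWU (hW.range_fromSpec.le ⟨b, rfl⟩)).1, hsq b⟩

theorem isUnivOpenAt_iff_fromSpecStalk (f : X ⟶ Y) [LocallyOfFinitePresentation f] (x : X)
    (x₁ : ↥(pullback f (Y.fromSpecStalk (f x)))) (hx₁ : pullback.fst f (Y.fromSpecStalk (f x)) x₁ = x) :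
    EGA43.IsUnivOpenAt f x ↔ EGA43.IsUnivOpenAt (pullback.snd f (Y.fromSpecStalk (f x))) x₁ := by
  refine ⟨fun h => OpenAt.univOpenAt_baseChange h (IsPullback.of_hasPullback _ _) x₁ hx₁, fun h Y' k x' hx' => ?_⟩
  haveI : LocallyOfFinitePresentation (pullback.snd f k) := MorphismProperty.pullback_snd f k inferInstance
  refine isOpenAt_of_generizations (pullback.snd f k) x' fun U hU hxU y'' hy'' => ?_
  let y' := pullback.snd f k x'
  let j := Y'.fromSpecStalk y'
  have hky : k y' = f x := by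
    show k (pullback.snd f k x') = f x
    rw [← Scheme.Hom.comp_apply, ← pullback.condition, Scheme.Hom.comp_apply]
    exact congrArg (f ·) hx'
  let σ : Spec (Y'.presheaf.stalk y') ⟶ Spec (Y.presheaf.stalk (f x)) :=
    Spec.map (k.stalkMap y') ≫ Spec.map (Y.presheaf.stalkSpecializes (specializes_of_eq hky))
  have hσ : σ ≫ Y.fromSpecStalk (f x) = j ≫ k := by
    show (_ ≫ _) ≫ _ = _
    rw [Category.assoc, Scheme.SpecMap_stalkSpecializes_fromSpecStalk, Scheme.SpecMap_stalkMap_fromSpecStalk]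
  let f₁ := pullback.snd f (Y.fromSpecStalk (f x))
  let Q := pullback f₁ σ
  let a : Q ⟶ pullback f k := pullback.lift (pullback.fst f₁ σ ≫ pullback.fst f _) (pullback.snd f₁ σ ≫ j) (by
    rw [Category.assoc, pullback.condition, ← Category.assoc, pullback.condition, Category.assoc, hσ, Category.assoc])
  obtain ⟨p, hp⟩ : y'' ∈ Set.range j := by
    show y'' ∈ Set.range (Y'.fromSpecStalk y')
    rw [Scheme.range_fromSpecStalk]
    exact hy''
  obtain ⟨xq', hxq'₁, hxq'₂⟩ : ∃ xq' : Q, a xq' = x' ∧ pullback.fst f₁ σ xq' = x₁ := by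
    have sq : IsPullback a (pullback.snd f₁ σ) (pullback.snd f k) j := by
      refine IsPullback.of_right ?_ (pullback.lift_snd _ _ _) (IsPullback.of_hasPullback f k)
      rw [pullback.lift_fst, ← hσ]
      exact (IsPullback.of_hasPullback f₁ σ).paste_horiz (IsPullback.of_hasPullback f _)
    obtain ⟨q, hq1, hq2⟩ := Scheme.exists_preimage_of_isPullback sq x' (IsLocalRing.closedPoint _)
      (Scheme.fromSpecStalk_closedPoint).symm
    refine ⟨q, hq1, ?_⟩
    haveI : IsPreimmersion (pullback.fst f (Y.fromSpecStalk (f x))) :=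
      MorphismProperty.pullback_fst f _ inferInstance
    refine (pullback.fst f (Y.fromSpecStalk (f x))).isEmbedding.injective ?_
    rw [hx₁, ← Scheme.Hom.comp_apply, show pullback.fst f₁ σ ≫ pullback.fst f _ = a ≫ pullback.fst f k from
      (pullback.lift_fst _ _ _).symm, Scheme.Hom.comp_apply, hq1, hx']
  have ho' := h _ σ xq' hxq'₂
  obtain ⟨O, hO, hOo, hcO⟩ := mem_nhds_iff.1 (ho' _ (a.continuous.continuousAt.preimage_mem_nhds
    (hU.mem_nhds (hxq'₁.symm ▸ hxU))))
  have hcl' : pullback.snd f₁ σ xq' = IsLocalRing.closedPoint _ := j.isEmbedding.injective (by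
    show j _ = Y'.fromSpecStalk y' _
    rw [Scheme.fromSpecStalk_closedPoint, ← Scheme.Hom.comp_apply,
      show pullback.snd f₁ σ ≫ j = a ≫ pullback.snd f k from (pullback.lift_snd _ _ _).symm, Scheme.Hom.comp_apply, hxq'₁])
  obtain ⟨q, hq, hqp⟩ := hO ((IsLocalRing.specializes_closedPoint p).mem_open hOo (hcl' ▸ hcO))
  refine ⟨a q, hq, ?_⟩
  rw [← hp, ← hqp, ← Scheme.Hom.comp_apply, ← Scheme.Hom.comp_apply]
  exact congrArg (fun φ : Q ⟶ Y' => φ q) (pullback.lift_snd _ _ _)

end GrothLib.UnivOpenAt6
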