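import Groth.Agent.Lib.Gonflement.Main
import Groth.Agent.Lib.AdicExtra.Completion
import Groth.Agent.Lib.Cohen.NagataMain
import Groth.Agent.Lib.FormalUnibranch.Basic
import Groth.Agent.Lib.SubtrLim.Multisection
import Mathlib.RingTheory.AdicCompletion.LocalRing

/-!
# Points over complete discrete valuation rings with algebraically closed residue field
-/

set_option autoImplicit false
set_option linter.style.haveILetI false

universe u

open IsLocalRing

namespace GrothLib.UnivOpenAt6

/-- A discrete valuation ring has a complete unramified extension with any given residue field. -/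
theorem exists_complete_extension (D : Type u) [CommRing D] [IsDomain D] [IsDiscreteValuationRing D]
    (K : Type u) [Field K] (θ : D →+* K) (hθ : RingHom.ker θ = maximalIdeal D) :
    ∃ (A : Type u) (_ : CommRing A) (_ : IsDomain A) (_ : IsDiscreteValuationRing A)
      (_ : IsAdicComplete (maximalIdeal A) A) (φ : D →+* A) (ψ : A →+* K),
      Function.Injective φ ∧ IsLocalHom φ ∧ Function.Surjective ψ ∧ ψ.comp φ = θ := by
  letI : Algebra (ResidueField D) K := (Ideal.Quotient.lift (maximalIdeal D) θ fun a ha => hθ.ge ha).toAlgebra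
  obtain ⟨B, _, φ, ψ, hN, hL, hflat, hsurj, hker, hcomp⟩ := GrothLib.Gonflement.exists_flat_local (R := D) K
  obtain ⟨ϖ, hϖ⟩ := IsDiscreteValuationRing.exists_irreducible D
  letI : Algebra D B := φ.toAlgebra
  haveI : Module.Flat D B := hflat
  have hmax : RingHom.ker ψ = maximalIdeal B := IsLocalRing.eq_maximalIdeal (RingHom.ker_isMaximal_of_surjective ψ hsurj)
  have hmB : maximalIdeal B = Ideal.span {φ ϖ} := by
    rw [← hmax, hker, hϖ.maximalIdeal_eq, Ideal.map_span, Set.image_singleton]
  haveI : IsLocalHom φ := ((IsLocalRing.local_hom_TFAE φ).out 0 2).2 (hker.symm.trans hmax).le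
  have hreg : IsSMulRegular B ϖ := Module.Flat.isSMulRegular_of_isRegular (isRegular_iff_ne_zero.2 hϖ.ne_zero)
  have hpB : ∀ x, φ ϖ * x = 0 → x = 0 := fun x hx => hreg.right_eq_zero_of_smul (by rw [Algebra.smul_def]; exact hx)
  have hdec : ∀ x : B, x ≠ 0 → ∃ (n : ℕ) (v : B), IsUnit v ∧ x = φ ϖ ^ n * v := by
    classical
    intro x hx
    have hex : ∃ n, x ∉ maximalIdeal B ^ n := by
      by_contra! h
      refine hx ?_
      have h3 : x ∈ (⨅ i, maximalIdeal B ^ i) := Ideal.mem_iInf.2 h
      rwa [Ideal.iInf_pow_eq_bot_of_isLocalRing _ (maximalIdeal.isMaximal B).ne_top] at h3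
    obtain ⟨n, hn⟩ : ∃ n, Nat.find hex = n + 1 := by
      refine ⟨Nat.find hex - 1, ?_⟩
      have : Nat.find hex ≠ 0 := fun h0 => Nat.find_spec hex (by simp [h0])
      omega
    have h1 : x ∈ maximalIdeal B ^ n := not_not.1 (Nat.find_min hex (by omega))
    rw [hmB, Ideal.span_singleton_pow, Ideal.mem_span_singleton] at h1
    obtain ⟨v, rfl⟩ := h1
    refine ⟨n, v, ?_, rfl⟩
    by_contra hv
    refine Nat.find_spec hex ?_
    rw [hn, pow_succ]
    exact Ideal.mul_mem_mul (Ideal.pow_mem_pow (hmB ▸ Ideal.subset_span rfl) n) hv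
  have hpow : ∀ n x, φ ϖ ^ n * x = 0 → x = 0 := fun n => by
    induction n with
    | zero => intro x hx; simpa using hx
    | succ n ih => intro x hx; exact hpB x (ih _ (by rw [← mul_assoc, ← pow_succ]; exact hx))
  haveI : NoZeroDivisors B := ⟨fun {a b} hab => by
    by_contra! h
    obtain ⟨n, v, hv, rfl⟩ := hdec a h.1
    obtain ⟨m, w, hw, rfl⟩ := hdec b h.2
    rw [mul_mul_mul_comm, ← pow_add] at hab
    exact (hv.mul hw).ne_zero (hpow _ _ hab)⟩
  haveI hdom : IsDomain B := NoZeroDivisors.to_isDomain B
  haveI : IsDiscreteValuationRing B := by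
    have hnf : ¬ IsField B := fun hF => by
      have h4 := IsLocalRing.isField_iff_maximalIdeal_eq.1 hF
      rw [hmB, Ideal.span_singleton_eq_bot] at h4
      exact one_ne_zero (α := B) (hpB 1 (by rw [h4, zero_mul]))
    exact ((IsDiscreteValuationRing.TFAE B hnf).out 0 4 rfl rfl).2 ⟨⟨φ ϖ, hmB⟩⟩
  obtain ⟨hΛd, hΛv⟩ := GrothLib.AdicExtra.exists_dvr_adicCompletion_iff.1
    ⟨hdom, (inferInstance : IsDiscreteValuationRing B)⟩
  let c := algebraMap B (AdicCompletion (maximalIdeal B) B)
  haveI : IsLocalHom c := AdicCompletion.algebraMap_isLocalHom_of_fg (maximalIdeal B).fg_of_isNoetherianRing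
  let e := RingEquiv.ofBijective _ (AdicCompletion.residueField_map_bijective_of_fg
    (maximalIdeal B).fg_of_isNoetherianRing)
  let ψ' := Ideal.Quotient.lift (maximalIdeal B) ψ fun a ha => hmax.ge ha
  haveI : IsLocalHom (c.comp φ) := inferInstance
  refine ⟨AdicCompletion (maximalIdeal B) B, inferInstance, hΛd, hΛv, inferInstance, c.comp φ,
    (ψ'.comp e.symm.toRingHom).comp (residue _), ?_, inferInstance, ?_, ?_⟩
  · refine (injective_iff_map_eq_zero _).2 fun d hd => ?_
    by_contra hne
    obtain ⟨n, hn⟩ := IsDiscreteValuationRing.associated_pow_irreducible hne hϖ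
    obtain ⟨w, rfl⟩ := hn.symm
    rw [map_mul, map_pow] at hd
    have hz : c (φ ϖ) = 0 := eq_zero_of_pow_eq_zero ((mul_eq_zero_iff_right (w.isUnit.map (c.comp φ)).ne_zero).1 hd)
    have hm := (AdicCompletion.maximalIdeal_eq_map (R := B)).trans
      ((congrArg (Ideal.map (algebraMap B (AdicCompletion (maximalIdeal B) B))) hmB).trans
        ((Ideal.map_span _ _).trans (congrArg Ideal.span Set.image_singleton)))
    refine IsDiscreteValuationRing.not_a_field (AdicCompletion (maximalIdeal B) B) ?_
    rw [show maximalIdeal (AdicCompletion (maximalIdeal B) B) = Ideal.span {c (φ ϖ)} from hm, hz,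
      Ideal.span_singleton_eq_bot]
  · intro k
    obtain ⟨b, rfl⟩ := hsurj k
    refine ⟨c b, ?_⟩
    show ψ' (e.symm (residue _ (c b))) = ψ b
    rw [show residue _ (c b) = e (residue B b) from rfl, RingEquiv.symm_apply_apply]
    rfl
  · ext d
    show ψ' (e.symm (residue _ (c (φ d)))) = θ d
    rw [show residue _ (c (φ d)) = e (residue B (φ d)) from rfl, RingEquiv.symm_apply_apply]
    exact RingHom.congr_fun hcomp d

/-- A rational point of the special fibre of a dominant scheme over a complete discrete valuation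
ring with algebraically closed residue field lifts after a finite extension. -/
theorem exists_lift_finite_extension (A : Type u) [CommRing A] [IsDomain A] [IsDiscreteValuationRing A]
    [IsAdicComplete (maximalIdeal A) A]
    (C : Type u) [CommRing C] [IsDomain C] [Algebra A C] [Algebra.FiniteType A C]
    (hinj : Function.Injective (algebraMap A C)) (c₀ : C →+* ResidueField A)
    (hc₀ : c₀.comp (algebraMap A C) = residue A) :
    ∃ (B : Type u) (_ : CommRing B) (_ : IsDomain B) (_ : IsDiscreteValuationRing B) (ψ : A →+* B)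
      (_ : IsLocalHom ψ) (v : C →+* B), ψ.Finite ∧ v.comp (algebraMap A C) = ψ ∧
      (residue B).comp v = (ResidueField.map ψ).comp c₀ := by
  have hc₀a : ∀ a, c₀ (algebraMap A C a) = residue A a := RingHom.congr_fun hc₀
  have hsurj : Function.Surjective c₀ := fun k => by
    obtain ⟨a, rfl⟩ := residue_surjective k
    exact ⟨algebraMap A C a, hc₀a a⟩
  let q := RingHom.ker c₀
  haveI : q.IsMaximal := RingHom.ker_isMaximal_of_surjective c₀ hsurj
  obtain ⟨R, _, _, _, _, _, n, s, φ, hn, hnA, hs, hφ⟩ := SubtrLim.exists_multisection hinj q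
    (by rw [RingHom.comap_ker, hc₀, IsLocalRing.ker_residue])
  haveI : Algebra.IsIntegral A R := inferInstance
  haveI : IsLocalRing R := FormalUnibranch.isLocalRing_of_finite_domain (R := A)
  haveI := hn
  have hnmax : n = maximalIdeal R := by
    haveI : (n.comap (algebraMap A R)).IsMaximal := hnA ▸ maximalIdeal.isMaximal A
    exact eq_maximalIdeal (Ideal.isMaximal_of_isIntegral_of_isMaximal_comap n ‹_›)
  have hsu : IsUnit s := by
    by_contra h
    exact hs (hnmax ▸ (mem_maximalIdeal s).2 h)
  let L := FractionRing R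
  haveI : FaithfulSMul A L := (faithfulSMul_iff_algebraMap_injective _ _).mpr <| by
    rw [IsScalarTower.algebraMap_eq A R L]
    exact (IsFractionRing.injective R L).comp (FaithfulSMul.algebraMap_injective A R)
  letI : Algebra (FractionRing A) L := FractionRing.liftAlgebra A L
  haveI : Algebra.QuasiFinite R L := inferInstance
  haveI : Algebra.QuasiFinite A L := Algebra.QuasiFinite.trans A R L
  haveI : Algebra.QuasiFinite (FractionRing A) L := Algebra.QuasiFinite.of_restrictScalars A (FractionRing A) L
  haveI : Module.Finite (FractionRing A) L := Module.Finite.of_quasiFinite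
  let O := integralClosure A L
  haveI : Module.Finite A O := GrothLib.Cohen.isN2_of_isAdicComplete A L inferInstance
  haveI : Algebra.IsIntegral A O := inferInstance
  haveI : IsLocalRing O := FormalUnibranch.isLocalRing_of_finite_domain (R := A)
  haveI : IsNoetherianRing O := IsNoetherianRing.of_finite A O
  haveI : IsFractionRing O L := integralClosure.isFractionRing_of_finite_extension (FractionRing A) L
  haveI : IsIntegrallyClosed O := integralClosure.isIntegrallyClosedOfFiniteExtension (FractionRing A)
  haveI : Ring.DimensionLEOne O := Ring.DimensionLEOne.of_isIntegral A O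
  haveI : IsDedekindDomain O := {}
  have hAO : Function.Injective (algebraMap A O) := fun a b h => FaithfulSMul.algebraMap_injective A L
    (congrArg Subtype.val h)
  haveI : IsDiscreteValuationRing O := by
    have hnf : ¬ IsField O := fun hF =>
      IsDiscreteValuationRing.not_isField A (isField_of_isIntegral_of_isField hAO hF)
    exact ((IsDiscreteValuationRing.TFAE O hnf).out 0 2 rfl rfl).2 ‹_›
  haveI : IsLocalHom (algebraMap A O) := by
    refine ((IsLocalRing.local_hom_TFAE _).out 0 4).2 ?_
    haveI := Ideal.isMaximal_comap_of_isIntegral_of_isMaximal (R := A) (maximalIdeal O)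
    exact eq_maximalIdeal ‹_›
  let ι : R →ₐ[A] O := (IsScalarTower.toAlgHom A R L).codRestrict O fun r =>
    (Algebra.IsIntegral.isIntegral r).map (IsScalarTower.toAlgHom A R L)
  have hιmax : ∀ y ∈ n, ι y ∈ maximalIdeal O := by
    intro y hy
    let P := (maximalIdeal O).comap ι.toRingHom
    haveI : (P.comap (algebraMap A R)).IsMaximal := by
      rw [Ideal.comap_comap, AlgHom.toRingHom_eq_coe, ι.comp_algebraMap]
      exact Ideal.isMaximal_comap_of_isIntegral_of_isMaximal (R := A) (maximalIdeal O)
    have hP : P = maximalIdeal R := eq_maximalIdeal (Ideal.isMaximal_of_isIntegral_of_isMaximal_comap P ‹_›)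
    have : y ∈ P := hP ▸ hnmax ▸ hy
    exact this
  obtain ⟨w, hw⟩ := hsu.exists_left_inv
  have hval : ∀ x N y, algebraMap R L y = algebraMap R L s ^ N * φ x → φ x = (ι (w ^ N * y) : L) := by
    intro x N y h
    show φ x = algebraMap R L (w ^ N * y)
    rw [map_mul, h, map_pow, ← mul_assoc, ← mul_pow, ← map_mul, hw, map_one, one_pow, one_mul]
  have hO : ∀ x, φ x ∈ O := fun x => by
    obtain ⟨N, y, hy, -⟩ := hφ x
    rw [hval x N y hy]
    exact (ι (w ^ N * y)).2
  let v : C →ₐ[A] O := φ.codRestrict O hO
  refine ⟨O, inferInstance, inferInstance, inferInstance, algebraMap A O, inferInstance, v.toRingHom,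
    RingHom.finite_algebraMap.2 inferInstance, v.comp_algebraMap, RingHom.ext fun x => ?_⟩
  obtain ⟨a, ha⟩ := residue_surjective (c₀ x)
  have hxq : x - algebraMap A C a ∈ q := RingHom.mem_ker.2 (by rw [map_sub, hc₀a, ha, sub_self])
  obtain ⟨N, y, hy, hyn⟩ := hφ (x - algebraMap A C a)
  have hv : v (x - algebraMap A C a) = ι (w ^ N * y) := Subtype.ext (hval _ N y hy)
  have h0 : residue O (v (x - algebraMap A C a)) = 0 := by
    rw [hv, residue_eq_zero_iff]
    exact hιmax _ (Ideal.mul_mem_left _ _ (hyn hxq))
  rw [map_sub, map_sub, sub_eq_zero, AlgHom.commutes] at h0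
  show residue O (v x) = ResidueField.map (algebraMap A O) (c₀ x)
  rw [h0, ← ha, ResidueField.map_residue]

end GrothLib.UnivOpenAt6
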