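import Groth.Agent.Lib.UnivOpenAt6.Alg

/-!
# Universal openness at a point and discrete valuation rings
-/

set_option autoImplicit false
set_option linter.style.haveILetI false

universe u

open CategoryTheory CategoryTheory.Limits AlgebraicGeometry TensorProduct Topology

namespace GrothLib.UnivOpenAt6

variable {X Y Y' : Scheme.{u}} {A B R : Type u} [CommRing A] [CommRing B] [Algebra A B] [CommRing R] [Algebra A R]

theorem exists_chart (f : X ⟶ Y) (g : Y' ⟶ Y) (jX : Spec (CommRingCat.of B) ⟶ X) [IsOpenImmersion jX]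
    (jY : Spec (CommRingCat.of A) ⟶ Y) [IsOpenImmersion jY]
    (jR : Spec (CommRingCat.of R) ⟶ Y') [IsOpenImmersion jR]
    (hX : jX ≫ f = Spec.map (CommRingCat.ofHom (algebraMap A B)) ≫ jY)
    (hR : jR ≫ g = Spec.map (CommRingCat.ofHom (algebraMap A R)) ≫ jY) :
    ∃ Φ : Spec (CommRingCat.of (R ⊗[A] B)) ⟶ pullback f g, IsOpenImmersion Φ ∧
      Φ ≫ pullback.fst f g =
        Spec.map (CommRingCat.ofHom (Algebra.TensorProduct.includeRight : B →ₐ[A] R ⊗[A] B).toRingHom) ≫ jX ∧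
      Φ ≫ pullback.snd f g = Spec.map (CommRingCat.ofHom (algebraMap R (R ⊗[A] B))) ≫ jR ∧
      Set.range Φ = (pullback.fst f g ⁻¹' Set.range jX) ∩ (pullback.snd f g ⁻¹' Set.range jR) := by
  let e := (pullbackSpecIso A R B).inv ≫ (pullbackSymmetry _ _).hom
  let k := pullback.map (Spec.map (CommRingCat.ofHom (algebraMap A B))) (Spec.map (CommRingCat.ofHom (algebraMap A R)))
    f g jX jR jY hX.symm hR.symm
  haveI : IsOpenImmersion k := inferInstance
  refine ⟨e ≫ k, inferInstance, ?_, ?_, ?_⟩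
  · simp only [e, k, Category.assoc, pullback.lift_fst, pullbackSymmetry_hom_comp_fst_assoc]
    rw [← Category.assoc, pullbackSpecIso_inv_snd]
    rfl
  · simp only [e, k, Category.assoc, pullback.lift_snd, pullbackSymmetry_hom_comp_snd_assoc]
    rw [← Category.assoc, pullbackSpecIso_inv_fst]
  · rw [Scheme.Hom.comp_base, TopCat.coe_comp, Set.range_comp, Set.range_eq_univ.2 (Scheme.Hom.surjective e),
      Set.image_univ]
    exact Scheme.Pullback.range_map _ _ _ _ _ _ _ _ _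

theorem dvrLift_of_dvr (f : X ⟶ Y) (jX : Spec (CommRingCat.of B) ⟶ X) [IsOpenImmersion jX]
    (jY : Spec (CommRingCat.of A) ⟶ Y) [IsOpenImmersion jY]
    (hX : jX ≫ f = Spec.map (CommRingCat.ofHom (algebraMap A B)) ≫ jY) (q : PrimeSpectrum B)
    (h : ∀ (D : Type u) [CommRing D] [IsDomain D] [IsDiscreteValuationRing D]
        (g : Spec (CommRingCat.of D) ⟶ Y), g (IsLocalRing.closedPoint D) = f (jX q) →
        ∀ x' : ↥(pullback f g), pullback.fst f g x' = jX q → pullback.snd f g x' = IsLocalRing.closedPoint D →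
          ∃ z' : ↥(pullback f g), z' ⤳ x' ∧ pullback.snd f g z' ≠ IsLocalRing.closedPoint D) :
    DvrLift A B q := by
  intro D _ _ _ _ w hwq hwc
  let g := Spec.map (CommRingCat.ofHom (algebraMap A D)) ≫ jY
  obtain ⟨Φ, _, h₁, h₂, -⟩ := exists_chart (R := D) f g jX jY (𝟙 _) hX (Category.id_comp _)
  have hfst : pullback.fst f g (Φ w) = jX q := by
    rw [← Scheme.Hom.comp_apply, h₁, Scheme.Hom.comp_apply]
    exact congrArg jX hwq
  have hsnd : ∀ v, pullback.snd f g (Φ v) = PrimeSpectrum.comap (algebraMap D (D ⊗[A] B)) v := fun v => by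
    rw [← Scheme.Hom.comp_apply, h₂, Category.comp_id]
    rfl
  obtain ⟨z', hz, hne⟩ := h D g (by
    rw [← hfst, ← Scheme.Hom.comp_apply (pullback.fst f g), pullback.condition, Scheme.Hom.comp_apply (pullback.snd f g)]
    exact congrArg g ((hsnd w).trans hwc).symm) (Φ w) hfst
    ((hsnd w).trans hwc)
  obtain ⟨z, rfl⟩ := hz.mem_open Φ.isOpenEmbedding.isOpen_range ⟨w, rfl⟩
  exact ⟨z, Φ.isOpenEmbedding.isInducing.specializes_iff.1 hz, fun hc => hne ((hsnd z).trans hc)⟩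

theorem univOpenAt_of_genLift (f : X ⟶ Y) {V : Y.Opens} {W : X.Opens} (hV : IsAffineOpen V) (hW : IsAffineOpen W)
    (hWV : W ≤ f ⁻¹ᵁ V) [Algebra Γ(Y, V) Γ(X, W)] (halg : algebraMap Γ(Y, V) Γ(X, W) = (f.appLE V W hWV).hom)
    [Algebra.FinitePresentation Γ(Y, V) Γ(X, W)] (q : PrimeSpectrum Γ(X, W)) (hq : GenLift Γ(Y, V) Γ(X, W) q) :
    EGA43.IsUnivOpenAt f (hW.fromSpec q) := by
  intro Y' g x' hx'
  have hxW : hW.fromSpec q ∈ W := hW.range_fromSpec.le ⟨q, rfl⟩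
  have hyV : f (hW.fromSpec q) ∈ V := hWV hxW
  obtain ⟨_, ⟨(V' : Y'.Opens), hV', rfl⟩, hyV', hV'V⟩ := Y'.isBasis_affineOpens.exists_subset_of_mem_open
    (show pullback.snd f g x' ∈ g ⁻¹ᵁ V by
      show g (pullback.snd f g x') ∈ V
      rw [← Scheme.Hom.comp_apply, ← pullback.condition, Scheme.Hom.comp_apply]
      exact (congrArg (f ·) hx').symm ▸ hyV) (g ⁻¹ᵁ V).2
  letI : Algebra Γ(Y, V) Γ(Y', V') := (g.appLE V V' hV'V).hom.toAlgebra
  have hX : hW.fromSpec ≫ f = Spec.map (CommRingCat.ofHom (algebraMap Γ(Y, V) Γ(X, W))) ≫ hV.fromSpec := by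
    rw [halg]
    exact (IsAffineOpen.SpecMap_appLE_fromSpec f hV hW hWV).symm
  obtain ⟨Φ, _, h₁, h₂, hrange⟩ := exists_chart (A := Γ(Y, V)) (B := Γ(X, W)) (R := Γ(Y', V')) f g hW.fromSpec hV.fromSpec
    hV'.fromSpec hX (IsAffineOpen.SpecMap_appLE_fromSpec g hV hV' hV'V).symm
  obtain ⟨w, rfl⟩ : x' ∈ Set.range Φ := hrange.ge
    ⟨hW.range_fromSpec.ge ((congrArg (· ∈ W) hx').mpr hxW), hV'.range_fromSpec.ge hyV'⟩
  have hw : PrimeSpectrum.comap (Algebra.TensorProduct.includeRight :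
      Γ(X, W) →ₐ[Γ(Y, V)] Γ(Y', V') ⊗[Γ(Y, V)] Γ(X, W)).toRingHom w = q := hW.fromSpec.isOpenEmbedding.injective (by
    rw [← hx', ← Scheme.Hom.comp_apply, h₁]
    rfl)
  have ho := isOpenAt_comap (R := Γ(Y', V')) hq w hw
  intro U hU
  have hsnd : ∀ v, pullback.snd f g (Φ v) = hV'.fromSpec
      (PrimeSpectrum.comap (algebraMap Γ(Y', V') (Γ(Y', V') ⊗[Γ(Y, V)] Γ(X, W))) v) := fun v => by
    rw [← Scheme.Hom.comp_apply, h₂]
    rfl
  have him := hV'.fromSpec.isOpenEmbedding.isOpenMap.image_mem_nhds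
    (ho _ (Φ.continuous.continuousAt.preimage_mem_nhds hU))
  rw [show (pullback.snd f g).base (Φ w) = _ from hsnd w]
  refine Filter.mem_of_superset him ?_
  rintro _ ⟨_, ⟨v, hv, rfl⟩, rfl⟩
  exact ⟨Φ v, hv, hsnd v⟩

theorem univOpenAt_of_dvr [IsLocallyNoetherian Y] (f : X ⟶ Y) [LocallyOfFiniteType f] (x : X)
    (h : ∀ (D : Type u) [CommRing D] [IsDomain D] [IsDiscreteValuationRing D]
        (g : Spec (CommRingCat.of D) ⟶ Y), g (IsLocalRing.closedPoint D) = f x →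
        ∀ x' : ↥(pullback f g), pullback.fst f g x' = x → pullback.snd f g x' = IsLocalRing.closedPoint D →
          ∃ z' : ↥(pullback f g), z' ⤳ x' ∧ pullback.snd f g z' ≠ IsLocalRing.closedPoint D) :
    EGA43.IsUnivOpenAt f x := by
  obtain ⟨_, ⟨(V : Y.Opens), hV, rfl⟩, hyV, -⟩ := Y.isBasis_affineOpens.exists_subset_of_mem_open
    (Set.mem_univ (f x)) isOpen_univ
  obtain ⟨_, ⟨(W : X.Opens), hW, rfl⟩, hxW, hWV⟩ := X.isBasis_affineOpens.exists_subset_of_mem_open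
    (show x ∈ f ⁻¹ᵁ V from hyV) (f ⁻¹ᵁ V).2
  haveI : IsNoetherianRing Γ(Y, V) := IsLocallyNoetherian.component_noetherian ⟨V, hV⟩
  letI : Algebra Γ(Y, V) Γ(X, W) := (f.appLE V W hWV).hom.toAlgebra
  haveI : Algebra.FiniteType Γ(Y, V) Γ(X, W) := f.finiteType_appLE hV hW hWV
  haveI : Algebra.FinitePresentation Γ(Y, V) Γ(X, W) := Algebra.FinitePresentation.of_finiteType.1 ‹_›
  obtain ⟨q, rfl⟩ := hW.range_fromSpec.ge hxW
  exact univOpenAt_of_genLift f hV hW hWV rfl q (genLift_of_dvrLift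
    (dvrLift_of_dvr f hW.fromSpec hV.fromSpec (IsAffineOpen.SpecMap_appLE_fromSpec f hV hW hWV).symm q h))

theorem dvr_of_univOpenAt (f : X ⟶ Y) {x : X} (h : EGA43.IsUnivOpenAt f x) (D : Type u) [CommRing D] [IsDomain D]
    [IsDiscreteValuationRing D] (g : Spec (CommRingCat.of D) ⟶ Y) (x' : ↥(pullback f g))
    (hx' : pullback.fst f g x' = x) (hc : pullback.snd f g x' = IsLocalRing.closedPoint D) :
    ∃ z', z' ⤳ x' ∧ pullback.snd f g z' = HTop.gen (CommRingCat.of D) := by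
  obtain ⟨ϖ, hϖ⟩ := IsDiscreteValuationRing.exists_irreducible D
  obtain ⟨_, ⟨(W : (pullback f g).Opens), hW, rfl⟩, hxW, -⟩ :=
    (pullback f g).isBasis_affineOpens.exists_subset_of_mem_open (Set.mem_univ x') isOpen_univ
  obtain ⟨φ, hφ⟩ := Spec.map_surjective (hW.fromSpec ≫ pullback.snd f g)
  have hgen : ∀ v, pullback.snd f g (hW.fromSpec v) = HTop.gen (CommRingCat.of D) ↔
      v ∈ PrimeSpectrum.basicOpen (φ.hom ϖ) := fun v => by
    rw [← Scheme.Hom.comp_apply, ← hφ]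
    show _ ↔ φ.hom ϖ ∉ v.asIdeal
    refine Iff.trans ⟨fun he hm => hϖ.ne_zero ?_, fun hm => ?_⟩ Iff.rfl
    · have : ϖ ∈ (HTop.gen (CommRingCat.of D)).asIdeal := he ▸ hm
      exact this
    · refine PrimeSpectrum.ext ?_
      show _ = (⊥ : Ideal D)
      by_contra hne
      refine hm ?_
      have hmax : (Spec.map φ v).asIdeal.IsMaximal := (Spec.map φ v).2.isMaximal hne
      exact (IsLocalRing.eq_maximalIdeal hmax ▸ (IsLocalRing.mem_maximalIdeal ϖ).2 hϖ.not_isUnit :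
        ϖ ∈ (Spec.map φ v).asIdeal)
  obtain ⟨v, rfl⟩ := hW.range_fromSpec.ge hxW
  let v : PrimeSpectrum Γ(pullback f g, W) := v
  have hcl : v ∈ closure (PrimeSpectrum.basicOpen (φ.hom ϖ) : Set (PrimeSpectrum Γ(pullback f g, W))) := by
    refine mem_closure_iff_nhds.2 ?_
    intro U hU
    have ho := h _ g _ hx' _ (hW.fromSpec.isOpenEmbedding.isOpenMap.image_mem_nhds hU)
    rw [show (pullback.snd f g).base (hW.fromSpec v) = HTop.closed (CommRingCat.of D) from hc] at ho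
    obtain ⟨_, ⟨t, ht, rfl⟩, htgen⟩ := mem_of_mem_nhds
      (((PrimeSpectrum.le_iff_specializes (HTop.gen (CommRingCat.of D)) (HTop.closed (CommRingCat.of D))).1 bot_le) ho)
    exact ⟨t, ht, (hgen t).1 htgen⟩
  obtain ⟨e, he, hev⟩ := SpecSp.exists_specializes_of_mem_closure
    (Constr.isClosed_constructibleTopology_of_isConstructible (PrimeSpectrum.isConstructible_basicOpen (f := φ.hom ϖ))) hcl
  exact ⟨hW.fromSpec e, hev.map hW.fromSpec.continuous, (hgen e).2 he⟩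

theorem univOpenAt_iff_dvr [IsLocallyNoetherian Y] (f : X ⟶ Y) [LocallyOfFiniteType f] (x : X) :
    EGA43.IsUnivOpenAt f x ↔
      ∀ (D : Type u) [CommRing D] [IsDomain D] [IsDiscreteValuationRing D]
        (g : Spec (CommRingCat.of D) ⟶ Y), g (IsLocalRing.closedPoint D) = f x →
        ∀ x' : ↥(pullback f g), pullback.fst f g x' = x → pullback.snd f g x' = IsLocalRing.closedPoint D →
          ∃ z' : ↥(pullback f g), z' ⤳ x' ∧ pullback.snd f g z' ≠ IsLocalRing.closedPoint D := by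
  refine ⟨fun h D _ _ _ g _ x' hx' hc => ?_, univOpenAt_of_dvr f x⟩
  obtain ⟨z', hz, hgen⟩ := dvr_of_univOpenAt f h D g x' hx' hc
  exact ⟨z', hz, fun heq => (IsDiscreteValuationRing.not_a_field D)
    (congrArg PrimeSpectrum.asIdeal (heq.symm.trans hgen))⟩

end GrothLib.UnivOpenAt6
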