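import Groth.Prelude.Def_EGA43
import Groth.Agent.Lib.UnivOpen.LinearForm
import Groth.Agent.Lib.SubtrLim.Submersive
import Groth.Agent.Lib.NoethTop.Spectral
import Groth.Agent.Lib.Constr.Basic
import Mathlib.RingTheory.TensorProduct.DirectLimitFG

/-!
# Openness after every base change from lifting of generizations over discrete valuation rings
-/

set_option autoImplicit false
set_option linter.style.haveILetI false

universe u

open CategoryTheory AlgebraicGeometry TensorProduct Topology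

namespace GrothLib.UnivOpenAt6

/-- Every point over `q` and over the closed point of a discrete valuation ring has a generization
outside of the closed fibre. -/
def DvrLift (A B : Type u) [CommRing A] [CommRing B] [Algebra A B] (q : PrimeSpectrum B) : Prop :=
  ∀ (D : Type u) [CommRing D] [IsDomain D] [IsDiscreteValuationRing D] [Algebra A D] (w : PrimeSpectrum (D ⊗[A] B)),
    PrimeSpectrum.comap (Algebra.TensorProduct.includeRight : B →ₐ[A] D ⊗[A] B).toRingHom w = q →
    PrimeSpectrum.comap (algebraMap D (D ⊗[A] B)) w = IsLocalRing.closedPoint D →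
    ∃ z, z ⤳ w ∧ PrimeSpectrum.comap (algebraMap D (D ⊗[A] B)) z ≠ IsLocalRing.closedPoint D

/-- Generizations lift at the points over `q` after base change to algebras of finite type. -/
def GenLift (A B : Type u) [CommRing A] [CommRing B] [Algebra A B] (q : PrimeSpectrum B) : Prop :=
  ∀ (R : Type u) [CommRing R] [Algebra A R] [Algebra.FiniteType A R] (w : PrimeSpectrum (R ⊗[A] B)),
    PrimeSpectrum.comap (Algebra.TensorProduct.includeRight : B →ₐ[A] R ⊗[A] B).toRingHom w = q →
    ∀ P : PrimeSpectrum R, P ⤳ PrimeSpectrum.comap (algebraMap R (R ⊗[A] B)) w →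
    ∃ z, z ⤳ w ∧ PrimeSpectrum.comap (algebraMap R (R ⊗[A] B)) z = P

variable {A B R : Type u} [CommRing A] [CommRing B] [Algebra A B] [CommRing R] [Algebra A R]
  {q : PrimeSpectrum B}

theorem exists_generization_noetherian [IsNoetherianRing R] (hq : DvrLift A B q) (w : PrimeSpectrum (R ⊗[A] B))
    (hw : PrimeSpectrum.comap (Algebra.TensorProduct.includeRight : B →ₐ[A] R ⊗[A] B).toRingHom w = q)
    {P : PrimeSpectrum R} (hP : P ⤳ PrimeSpectrum.comap (algebraMap R (R ⊗[A] B)) w) :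
    ∃ z, z ⤳ w ∧ PrimeSpectrum.comap (algebraMap R (R ⊗[A] B)) z = P := by
  obtain ⟨D, _, _, _, g, hgen, hclosed⟩ := SubtrLim.exists_dvr_map (Y := Spec (CommRingCat.of R)) hP
  obtain ⟨ψ, rfl⟩ := Spec.map_surjective g
  letI : Algebra A D := (ψ.hom.comp (algebraMap A R)).toAlgebra
  let ψA : R →ₐ[A] D := { ψ.hom with commutes' := fun _ => rfl }
  obtain ⟨Ω, _, e₁, e₂, hk₁, hk₂, he⟩ := UnivOpen.exists_common_field (algebraMap R (R ⊗[A] B)) ψ.hom w
    (IsLocalRing.closedPoint D) hclosed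
  letI : Algebra A Ω := (e₂.comp (algebraMap A D)).toAlgebra
  let e₂A : D →ₐ[A] Ω := { e₂ with commutes' := fun _ => rfl }
  let e₁A : B →ₐ[A] Ω :=
    { e₁.comp (Algebra.TensorProduct.includeRight : B →ₐ[A] R ⊗[A] B).toRingHom with
      commutes' := fun a => by
        show e₁ (Algebra.TensorProduct.includeRight (R := A) (A := R) (algebraMap A B a)) = e₂ (ψ.hom (algebraMap A R a))
        rw [AlgHom.commutes, ← RingHom.comp_apply e₂, ← he]
        rfl }
  let Φ := Algebra.TensorProduct.map ψA (AlgHom.id A B)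
  let L : D ⊗[A] B →ₐ[A] Ω := Algebra.TensorProduct.lift e₂A e₁A fun _ _ => Commute.all _ _
  have hL : L.toRingHom.comp Φ.toRingHom = e₁ := RingHom.ext fun x => by
    induction x with
    | zero => simp only [map_zero]
    | add x y hx hy => rw [map_add, map_add, hx, hy]
    | tmul r b =>
      show L (ψA r ⊗ₜ b) = e₁ (r ⊗ₜ b)
      rw [Algebra.TensorProduct.lift_tmul]
      show e₂ (ψ.hom r) * e₁ (1 ⊗ₜ b) = _
      rw [← RingHom.comp_apply e₂, ← he, RingHom.comp_apply, ← map_mul]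
      simp
  let wD : PrimeSpectrum (D ⊗[A] B) := ⟨RingHom.ker L.toRingHom, RingHom.ker_isPrime _⟩
  have hwD : PrimeSpectrum.comap Φ.toRingHom wD = w := PrimeSpectrum.ext (by
    show Ideal.comap Φ.toRingHom (RingHom.ker L.toRingHom) = _
    rw [RingHom.comap_ker, hL, hk₁])
  obtain ⟨z, hz, hzne⟩ := hq D wD
    (PrimeSpectrum.ext (by
      rw [← hw, ← hwD]
      ext b
      show L (1 ⊗ₜ b) = 0 ↔ L (Φ (1 ⊗ₜ b)) = 0
      rw [Algebra.TensorProduct.map_tmul, map_one, AlgHom.id_apply]))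
    (PrimeSpectrum.ext (by
      rw [← hk₂]
      ext d
      show L (d ⊗ₜ 1) = 0 ↔ e₂ d = 0
      rw [Algebra.TensorProduct.lift_tmul, map_one, mul_one]
      rfl))
  refine ⟨PrimeSpectrum.comap Φ.toRingHom z, hwD ▸ hz.map (PrimeSpectrum.continuous_comap _), ?_⟩
  rw [← hgen]
  have hbot : PrimeSpectrum.comap (algebraMap D (D ⊗[A] B)) z = HTop.gen (CommRingCat.of D) := by
    refine PrimeSpectrum.ext ?_
    show _ = (⊥ : Ideal D)
    by_contra hne
    exact hzne (PrimeSpectrum.ext (IsLocalRing.eq_maximalIdeal ((PrimeSpectrum.comap _ z).2.isMaximal hne)))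
  rw [← hbot]
  refine PrimeSpectrum.ext ?_
  ext r
  show Φ (r ⊗ₜ 1) ∈ z.asIdeal ↔ algebraMap D (D ⊗[A] B) (ψ.hom r) ∈ z.asIdeal
  rw [Algebra.TensorProduct.map_tmul, map_one]
  rfl

theorem genLift_of_dvrLift [IsNoetherianRing A] (hq : DvrLift A B q) : GenLift A B q :=
  fun R _ _ _ w hw _ hP => by
    haveI : IsNoetherianRing R := Algebra.FiniteType.isNoetherianRing A R
    exact exists_generization_noetherian hq w hw hP

theorem range_map_mono {C C' : Subalgebra A R} (h : C ≤ C') :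
    Set.range (Algebra.TensorProduct.map C.val (AlgHom.id A B)) ⊆
      Set.range (Algebra.TensorProduct.map C'.val (AlgHom.id A B)) := by
  rintro _ ⟨u, rfl⟩
  refine ⟨Algebra.TensorProduct.map (Subalgebra.inclusion h) (AlgHom.id A B) u, ?_⟩
  induction u with
  | zero => simp only [map_zero]
  | add x y hx hy => simp only [map_add, hx, hy]
  | tmul r b => rfl

theorem exists_generization (hq : GenLift A B q) (w : PrimeSpectrum (R ⊗[A] B))
    (hw : PrimeSpectrum.comap (Algebra.TensorProduct.includeRight : B →ₐ[A] R ⊗[A] B).toRingHom w = q)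
    {P : PrimeSpectrum R} (hP : P ⤳ PrimeSpectrum.comap (algebraMap R (R ⊗[A] B)) w) {s : R ⊗[A] B} (hs : s ∉ w.asIdeal) :
    ∃ z : PrimeSpectrum (R ⊗[A] B), s ∉ z.asIdeal ∧ PrimeSpectrum.comap (algebraMap R (R ⊗[A] B)) z = P := by
  classical
  let f := algebraMap R (R ⊗[A] B)
  let S : Submonoid (R ⊗[A] B) := Submonoid.powers s ⊔ P.asIdeal.primeCompl.map f
  by_cases hd : Disjoint (P.asIdeal.map f : Set (R ⊗[A] B)) (S : Set (R ⊗[A] B))
  · obtain ⟨z, hz, hle, hzS⟩ := Ideal.exists_le_prime_disjoint _ _ hd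
    refine ⟨⟨z, hz⟩, fun h => Set.disjoint_left.1 hzS h ((le_sup_left : Submonoid.powers s ≤ S) ⟨1, pow_one s⟩),
      PrimeSpectrum.ext (le_antisymm (fun r hr => ?_) (Ideal.map_le_iff_le_comap.1 hle))⟩
    by_contra hrP
    exact Set.disjoint_left.1 hzS hr ((le_sup_right : P.asIdeal.primeCompl.map f ≤ S) ⟨r, hrP, rfl⟩)
  exfalso
  obtain ⟨x, hxI, hxS⟩ := Set.not_disjoint_iff.1 hd
  obtain ⟨_, ⟨n, rfl⟩, _, ⟨a, ha, rfl⟩, rfl⟩ := Submonoid.mem_sup.1 hxS
  obtain ⟨m, c, g, hsum⟩ := (Submodule.mem_span_set' (R := R ⊗[A] B)).1 hxI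
  choose x hxP hgx using fun i => (g i).2
  have hrange : ∀ u : R ⊗[A] B, ∃ C : Subalgebra A R, C.FG ∧
      u ∈ Set.range (Algebra.TensorProduct.map C.val (AlgHom.id A B)) := fun u => by
    obtain ⟨C, hC, v, hv⟩ := TensorProduct.Algebra.exists_of_fg (S := R) u
    exact ⟨C, hC, v, hv⟩
  choose Cof hCof hmemC using hrange
  let C : Subalgebra A R := Algebra.adjoin A ↑(insert a (Finset.univ.image x)) ⊔ Cof s ⊔ Finset.univ.sup fun i => Cof (c i)
  have hC : C.FG := by
    refine ((Subalgebra.fg_adjoin_finset _).sup (hCof s)).sup ?_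
    exact Finset.sup_induction Subalgebra.fg_bot (fun _ h₁ _ h₂ => h₁.sup h₂) fun i _ => hCof (c i)
  have hmem : ∀ r ∈ (↑(insert a (Finset.univ.image x)) : Set R), r ∈ C := fun r hr =>
    (le_sup_left.trans le_sup_left : _ ≤ C) (Algebra.subset_adjoin hr)
  let θ := Algebra.TensorProduct.map C.val (AlgHom.id A B)
  obtain ⟨s₀, hs₀⟩ : s ∈ Set.range θ := range_map_mono (le_sup_right.trans le_sup_left : Cof s ≤ C) (hmemC s)
  have hc : ∀ i, c i ∈ Set.range θ := fun i =>
    range_map_mono (le_trans (Finset.le_sup (f := fun i => Cof (c i)) (Finset.mem_univ i)) le_sup_right : Cof (c i) ≤ C)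
      (hmemC (c i))
  choose c₀ hc₀ using hc
  let a₀ : C := ⟨a, hmem a (Finset.mem_coe.2 (Finset.mem_insert_self _ _))⟩
  let x₀ : Fin m → C := fun i => ⟨x i, hmem _ (Finset.mem_coe.2 (Finset.mem_insert_of_mem
    (Finset.mem_image_of_mem x (Finset.mem_univ i))))⟩
  have hθ : ∀ r : C, θ (algebraMap C (C ⊗[A] B) r) = f r := fun r => by
    show θ (r ⊗ₜ 1) = _
    rw [Algebra.TensorProduct.map_tmul, map_one]
    rfl
  have hθt : θ (s₀ ^ n * algebraMap C (C ⊗[A] B) a₀) = θ (∑ i, c₀ i * algebraMap C (C ⊗[A] B) (x₀ i)) := by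
    rw [map_mul, map_pow, hs₀, hθ, map_sum, ← hsum]
    exact Finset.sum_congr rfl fun i _ => by rw [map_mul, hc₀, hθ, ← hgx i, smul_eq_mul]
  obtain ⟨C', hle, hC', heq⟩ := TensorProduct.Algebra.eq_of_fg_of_subtype_eq (R := A) (S := R) (N := B) hC hθt
  haveI : Algebra.FiniteType A C' := C'.fg_iff_finiteType.1 hC'
  let ι := Algebra.TensorProduct.map (Subalgebra.inclusion hle) (AlgHom.id A B)
  let θ' := Algebra.TensorProduct.map C'.val (AlgHom.id A B)
  have hι : ∀ u, θ' (ι u) = θ u := fun u => by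
    induction u with
    | zero => simp only [map_zero]
    | add p q hp hq => simp only [map_add, hp, hq]
    | tmul r b => rfl
  have heq' : ι (s₀ ^ n * algebraMap C (C ⊗[A] B) a₀) = ι (∑ i, c₀ i * algebraMap C (C ⊗[A] B) (x₀ i)) := heq
  have hιr : ∀ r : C, ι (algebraMap C (C ⊗[A] B) r) = algebraMap C' (C' ⊗[A] B) (Subalgebra.inclusion hle r) := fun r => by
    show ι (r ⊗ₜ 1) = _
    rw [Algebra.TensorProduct.map_tmul, map_one]
    rfl
  let w' := PrimeSpectrum.comap θ'.toRingHom w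
  obtain ⟨z, hzw, hzP⟩ := hq C' w'
    (PrimeSpectrum.ext (by
      rw [← hw]
      ext b
      show θ' (1 ⊗ₜ b) ∈ w.asIdeal ↔ _
      rw [Algebra.TensorProduct.map_tmul, map_one]
      rfl))
    (PrimeSpectrum.comap C'.val.toRingHom P) (by
      convert hP.map (PrimeSpectrum.continuous_comap C'.val.toRingHom) using 1
      refine PrimeSpectrum.ext ?_
      ext r
      show θ' (r ⊗ₜ 1) ∈ w.asIdeal ↔ algebraMap R (R ⊗[A] B) (r : R) ∈ w.asIdeal
      rw [Algebra.TensorProduct.map_tmul, map_one]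
      rfl)
  have hsz : ι s₀ ∉ z.asIdeal := fun h => hs (by
    have := (PrimeSpectrum.le_iff_specializes z w').2 hzw h
    have h' : θ' (ι s₀) ∈ w.asIdeal := this
    rwa [hι, hs₀] at h')
  have hiff : ∀ r : C, ι (algebraMap C (C ⊗[A] B) r) ∈ z.asIdeal ↔ (r : R) ∈ P.asIdeal := fun r => by
    rw [hιr]
    exact iff_of_eq (congrArg (Subalgebra.inclusion hle r ∈ ·.asIdeal) hzP)
  have hprod : ι (s₀ ^ n * algebraMap C (C ⊗[A] B) a₀) ∈ z.asIdeal := by
    rw [heq', map_sum]
    refine Ideal.sum_mem _ fun i _ => ?_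
    rw [map_mul]
    exact Ideal.mul_mem_left _ _ ((hiff (x₀ i)).2 (hxP i))
  rw [map_mul, map_pow] at hprod
  rcases z.2.mem_or_mem hprod with h | h
  · exact hsz (z.2.mem_of_pow_mem n h)
  · exact ha ((hiff a₀).1 h)

/-- Lifting of generizations over discrete valuation rings gives openness after every base change. -/
theorem isOpenAt_comap [Algebra.FinitePresentation A B] (hq : GenLift A B q) (w : PrimeSpectrum (R ⊗[A] B))
    (hw : PrimeSpectrum.comap (Algebra.TensorProduct.includeRight : B →ₐ[A] R ⊗[A] B).toRingHom w = q) :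
    EGA43.IsOpenAt (PrimeSpectrum.comap (algebraMap R (R ⊗[A] B))) w := by
  intro U hU
  obtain ⟨_, ⟨s, rfl⟩, hwS, hSU⟩ := PrimeSpectrum.isTopologicalBasis_basic_opens.exists_subset_of_mem_open
    (mem_interior_iff_mem_nhds.2 hU) isOpen_interior
  refine Filter.mem_of_superset ?_ (Set.image_mono (hSU.trans interior_subset))
  by_contra hnot
  have hcl : PrimeSpectrum.comap (algebraMap R (R ⊗[A] B)) w ∈
      closure (PrimeSpectrum.comap (algebraMap R (R ⊗[A] B)) '' (PrimeSpectrum.basicOpen s : Set _))ᶜ := by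
    rw [closure_compl]
    exact fun h => hnot (mem_interior_iff_mem_nhds.1 h)
  have hc := PrimeSpectrum.isConstructible_comap_image (f := algebraMap R (R ⊗[A] B))
    (RingHom.finitePresentation_algebraMap.2 inferInstance) (PrimeSpectrum.isConstructible_basicOpen (f := s))
  obtain ⟨e, he, hsp⟩ := SpecSp.exists_specializes_of_mem_closure
    (Constr.isClosed_constructibleTopology_of_isConstructible hc.compl) hcl
  obtain ⟨z, hz, hze⟩ := exists_generization hq w hw hsp (s := s) hwS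
  exact he ⟨z, hz, hze⟩

end GrothLib.UnivOpenAt6
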