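import Groth.Agent.Lib.UnivOpenAt6.Basic
import Groth.Agent.Lib.UnivOpenAt6.Components
import Groth.Agent.Lib.RedSub.Basic
import Groth.Agent.Lib.UnivOpenAt6.Cut.Normal
import Mathlib.AlgebraicGeometry.AffineSpace

/-!
# Universal openness from domination of components over irreducible schemes of finite type
-/

set_option autoImplicit false
set_option linter.style.haveILetI false

universe u

open CategoryTheory CategoryTheory.Limits AlgebraicGeometry Topology TensorProduct

namespace GrothLib.UnivOpenAt6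

variable {X Y : Scheme.{u}}

theorem exists_irreducible_closure (ξ : X) :
    ∃ (Zs : Scheme.{u}) (ι : Zs ⟶ X) (_ : IsClosedImmersion ι) (_ : IrreducibleSpace Zs),
      Set.range ι = closure {ξ} ∧ ι (genericPoint Zs) = ξ := by
  let C : TopologicalSpace.Closeds X := ⟨closure {ξ}, isClosed_closure⟩
  let ι := (Scheme.IdealSheafData.vanishingIdeal C).subschemeι
  have hrange : Set.range ι = closure {ξ} := GrothLib.RedSub.range_subschemeι_vanishingIdeal C
  haveI : IrreducibleSpace (Set.range ι) :=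
    Subtype.irreducibleSpace (hrange.symm ▸ isIrreducible_singleton.closure)
  haveI : IrreducibleSpace (Scheme.IdealSheafData.vanishingIdeal C).subscheme :=
    (Homeomorph.irreducibleSpace_iff ι.isEmbedding.toHomeomorph).mpr inferInstance
  refine ⟨_, ι, inferInstance, inferInstance, hrange, ?_⟩
  have h1 := (genericPoint_spec (Scheme.IdealSheafData.vanishingIdeal C).subscheme).image ι.continuous
  rw [Set.image_univ, hrange, closure_closure] at h1
  exact h1.eq isGenericPoint_closure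

theorem genLift_of_components_dominate (f : X ⟶ Y) {A B : Type u} [CommRing A] [CommRing B] [Algebra A B]
    (jX : Spec (CommRingCat.of B) ⟶ X) [IsOpenImmersion jX] (jY : Spec (CommRingCat.of A) ⟶ Y) [IsOpenImmersion jY]
    (hX : jX ≫ f = Spec.map (CommRingCat.ofHom (algebraMap A B)) ≫ jY) (q : PrimeSpectrum B)
    (h : ∀ (Y' : Scheme.{u}) (g : Y' ⟶ Y) [IrreducibleSpace Y'] [LocallyOfFiniteType g] [QuasiCompact g],
      ∀ Z ∈ irreducibleComponents (↥(pullback f g) : Type u), Dense ((pullback.snd f g) '' Z)) :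
    GenLift A B q := by
  intro R _ _ _ w _ P hP
  obtain ⟨n, ψ₀, hψ₀⟩ := Algebra.FiniteType.iff_quotient_mvPolynomial''.1 ‹Algebra.FiniteType A R›
  let σ : Type u := ULift.{u} (Fin n)
  let ψ : MvPolynomial σ A →ₐ[A] R := ψ₀.comp (MvPolynomial.renameEquiv A Equiv.ulift).toAlgHom
  have hψ : Function.Surjective ψ := hψ₀.comp (MvPolynomial.renameEquiv A Equiv.ulift).surjective
  let g₀ := 𝔸(σ; Y) ↘ Y
  let jR : Spec (CommRingCat.of (MvPolynomial σ A)) ⟶ 𝔸(σ; Y) :=
    (AffineSpace.SpecIso σ (CommRingCat.of A)).inv ≫ AffineSpace.map σ jY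
  haveI : IsOpenImmersion (AffineSpace.map σ jY) :=
    MorphismProperty.of_isPullback (AffineSpace.isPullback_map (n := σ) jY).flip ‹_›
  have hR : jR ≫ g₀ = Spec.map (CommRingCat.ofHom (algebraMap A (MvPolynomial σ A))) ≫ jY := by
    rw [Category.assoc, AffineSpace.map_over, ← Category.assoc, AffineSpace.SpecIso_inv_over]
    rfl
  obtain ⟨Φ, _, h₁, h₂, -⟩ := exists_chart (R := MvPolynomial σ A) f g₀ jX jY jR hX hR
  let Ψ := Algebra.TensorProduct.map ψ (AlgHom.id A B)
  let w₀ := PrimeSpectrum.comap Ψ.toRingHom w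
  let P₀ := PrimeSpectrum.comap ψ.toRingHom P
  have hcomap : ∀ v : PrimeSpectrum (R ⊗[A] B),
      PrimeSpectrum.comap (algebraMap (MvPolynomial σ A) (MvPolynomial σ A ⊗[A] B))
        (PrimeSpectrum.comap Ψ.toRingHom v) =
        PrimeSpectrum.comap ψ.toRingHom (PrimeSpectrum.comap (algebraMap R (R ⊗[A] B)) v) := fun v => by
    refine PrimeSpectrum.ext (SetLike.ext fun F => ?_)
    show Ψ (F ⊗ₜ 1) ∈ v.asIdeal ↔ (ψ F) ⊗ₜ[A] (1 : B) ∈ v.asIdeal
    rw [Algebra.TensorProduct.map_tmul, map_one]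
  have hsnd : ∀ v, pullback.snd f g₀ (Φ v) =
      jR (PrimeSpectrum.comap (algebraMap (MvPolynomial σ A) (MvPolynomial σ A ⊗[A] B)) v) := fun v => by
    rw [← Scheme.Hom.comp_apply, h₂, Scheme.Hom.comp_apply]
    rfl
  obtain ⟨Zs, ι, _, _, hrange, hgen⟩ := exists_irreducible_closure (jR P₀)
  have hw₀ : jR P₀ ⤳ pullback.snd f g₀ (Φ w₀) := by
    rw [hsnd, hcomap]
    exact (hP.map (PrimeSpectrum.continuous_comap ψ.toRingHom)).map jR.continuous
  obtain ⟨s, hs⟩ := hrange.ge (specializes_iff_mem_closure.1 hw₀)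
  let k : pullback f (ι ≫ g₀) ⟶ pullback f g₀ :=
    pullback.lift (pullback.fst _ _) (pullback.snd _ _ ≫ ι) (by rw [pullback.condition, Category.assoc])
  have sq : IsPullback k (pullback.snd f (ι ≫ g₀)) (pullback.snd f g₀) ι := by
    refine IsPullback.of_right ?_ (pullback.lift_snd _ _ _) (IsPullback.of_hasPullback f g₀)
    rw [pullback.lift_fst]
    exact IsPullback.of_hasPullback f (ι ≫ g₀)
  obtain ⟨x', hx', -⟩ := Scheme.exists_preimage_of_isPullback sq (Φ w₀) s hs.symm
  obtain ⟨ξ, hξ⟩ := QuasiSober.sober (isIrreducible_irreducibleComponent (x := x'))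
    (isClosed_of_mem_irreducibleComponents _ (irreducibleComponent_mem_irreducibleComponents x'))
  have hd := h Zs (ι ≫ g₀) _ (irreducibleComponent_mem_irreducibleComponents x')
  have hξgen : pullback.snd f (ι ≫ g₀) ξ = genericPoint Zs := by
    refine IsGenericPoint.eq (S := Set.univ) ?_ (genericPoint_spec Zs)
    refine Set.eq_univ_of_forall fun z => ?_
    refine closure_minimal ?_ isClosed_closure (hd z)
    rintro _ ⟨t, ht, rfl⟩
    exact specializes_iff_mem_closure.1 ((hξ.specializes ht).map (pullback.snd f (ι ≫ g₀)).continuous)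
  have hks : k ξ ⤳ Φ w₀ := hx' ▸ (hξ.specializes mem_irreducibleComponent).map k.continuous
  obtain ⟨z, hz⟩ := hks.mem_open Φ.isOpenEmbedding.isOpen_range ⟨w₀, rfl⟩
  have hzP : PrimeSpectrum.comap (algebraMap (MvPolynomial σ A) (MvPolynomial σ A ⊗[A] B)) z = P₀ :=
    jR.isOpenEmbedding.injective (by
      rw [← hsnd, hz, ← Scheme.Hom.comp_apply, pullback.lift_snd, Scheme.Hom.comp_apply, hξgen, hgen])
  have hsurj : Function.Surjective Ψ := fun x => by
    induction x with
    | zero => exact ⟨0, map_zero _⟩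
    | tmul r c =>
      obtain ⟨r, rfl⟩ := hψ r
      exact ⟨r ⊗ₜ c, rfl⟩
    | add x y hx hy =>
      obtain ⟨x, rfl⟩ := hx; obtain ⟨y, rfl⟩ := hy
      exact ⟨x + y, map_add _ _ _⟩
  have hker : z.asIdeal.comap (algebraMap (MvPolynomial σ A) (MvPolynomial σ A ⊗[A] B)) = P.asIdeal.comap ψ.toRingHom :=
    congrArg PrimeSpectrum.asIdeal hzP
  obtain ⟨zR, hzR, hzR'⟩ : ∃ zR : PrimeSpectrum (R ⊗[A] B), PrimeSpectrum.comap Ψ.toRingHom zR = z ∧
      PrimeSpectrum.comap (algebraMap R (R ⊗[A] B)) zR = P := exists_point_over ψ z P (PrimeSpectrum.ext hker.symm)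
  refine ⟨zR, ?_, hzR'⟩
  rw [← (PrimeSpectrum.isClosedEmbedding_comap_of_surjective _ Ψ.toRingHom hsurj).isInducing.specializes_iff, hzR]
  exact Φ.isOpenEmbedding.isInducing.specializes_iff.1 (hz ▸ hks)

theorem universallyOpen_of_components_dominate (f : X ⟶ Y) [LocallyOfFinitePresentation f]
    (h : ∀ (Y' : Scheme.{u}) (g : Y' ⟶ Y) [IrreducibleSpace Y'] [LocallyOfFiniteType g] [QuasiCompact g],
      ∀ Z ∈ irreducibleComponents (↥(pullback f g) : Type u), Dense ((pullback.snd f g) '' Z)) :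
    UniversallyOpen f := by
  refine (universallyOpen_iff_forall_univOpenAt f).2 fun x => ?_
  obtain ⟨_, ⟨(V : Y.Opens), hV, rfl⟩, hyV, -⟩ := Y.isBasis_affineOpens.exists_subset_of_mem_open
    (Set.mem_univ (f x)) isOpen_univ
  obtain ⟨_, ⟨(W : X.Opens), hW, rfl⟩, hxW, hWV⟩ := X.isBasis_affineOpens.exists_subset_of_mem_open
    (show x ∈ f ⁻¹ᵁ V from hyV) (f ⁻¹ᵁ V).2
  letI : Algebra Γ(Y, V) Γ(X, W) := (f.appLE V W hWV).hom.toAlgebra
  haveI : Algebra.FinitePresentation Γ(Y, V) Γ(X, W) := f.finitePresentation_appLE hV hW hWV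
  obtain ⟨q, rfl⟩ := hW.range_fromSpec.ge hxW
  exact univOpenAt_of_genLift f hV hW hWV rfl q (genLift_of_components_dominate f hW.fromSpec hV.fromSpec
    (IsAffineOpen.SpecMap_appLE_fromSpec f hV hW hWV).symm q h)

end GrothLib.UnivOpenAt6
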