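import Groth.Agent.Lib.UnivOpenAt6.Basic
import Groth.Agent.Lib.UnivOpenAt6.Complete
import Mathlib.FieldTheory.IsAlgClosed.AlgebraicClosure

/-!
# Universal openness at a point and liftings of points after finite extensions
-/

set_option autoImplicit false
set_option linter.style.haveILetI false

universe u

open CategoryTheory CategoryTheory.Limits AlgebraicGeometry

namespace GrothLib.UnivOpenAt6

variable {X Y : Scheme.{u}}

theorem exists_lift_of_univOpenAt (f : X ⟶ Y) [LocallyOfFiniteType f] {x : X} (h : EGA43.IsUnivOpenAt f x)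
    (A : Type u) [CommRing A] [IsDomain A] [IsDiscreteValuationRing A]
    [IsAdicComplete (IsLocalRing.maximalIdeal A) A]
    (g : Spec (CommRingCat.of A) ⟶ Y)
    (u₀ : Spec (CommRingCat.of (IsLocalRing.ResidueField A)) ⟶ X)
    (hu : u₀ ≫ f = Spec.map (CommRingCat.ofHom (IsLocalRing.residue A)) ≫ g) (hx : x ∈ Set.range u₀) :
    ∃ (B : CommRingCat.{u}) (_ : IsDomain B) (_ : IsDiscreteValuationRing B) (φ : A →+* B)
      (_ : IsLocalHom φ) (v : Spec B ⟶ X),
      φ.Finite ∧ v ≫ f = Spec.map (CommRingCat.ofHom φ) ≫ g ∧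
      Spec.map (CommRingCat.ofHom (IsLocalRing.ResidueField.map φ)) ≫ u₀ =
        Spec.map (CommRingCat.ofHom (IsLocalRing.residue B)) ≫ v := by
  haveI : Subsingleton (Spec (CommRingCat.of (IsLocalRing.ResidueField A))) :=
    inferInstanceAs (Subsingleton (PrimeSpectrum _))
  obtain ⟨pk, rfl⟩ := hx
  let w : Spec (CommRingCat.of (IsLocalRing.ResidueField A)) ⟶ pullback f g :=
    pullback.lift u₀ (Spec.map (CommRingCat.ofHom (IsLocalRing.residue A))) hu
  have hw₁ : pullback.fst f g (w pk) = u₀ pk := by rw [← Scheme.Hom.comp_apply, pullback.lift_fst]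
  have hw₂ : pullback.snd f g (w pk) = IsLocalRing.closedPoint A := by
    rw [← Scheme.Hom.comp_apply, pullback.lift_snd]
    refine PrimeSpectrum.ext (IsLocalRing.eq_maximalIdeal ?_)
    haveI : pk.asIdeal.IsMaximal := by
      have h0 : pk.asIdeal = IsLocalRing.maximalIdeal (IsLocalRing.ResidueField A) := by
        rw [← (Subsingleton.elim (IsLocalRing.closedPoint (IsLocalRing.ResidueField A)) pk)]
        rfl
      rw [h0]
      exact IsLocalRing.maximalIdeal.isMaximal _
    exact Ideal.comap_isMaximal_of_surjective _ IsLocalRing.residue_surjective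
  obtain ⟨z, hz, hzgen⟩ := dvr_of_univOpenAt f h A g (w pk) hw₁ hw₂
  obtain ⟨_, ⟨(W : (pullback f g).Opens), hW, rfl⟩, hwW, -⟩ :=
    (pullback f g).isBasis_affineOpens.exists_subset_of_mem_open (Set.mem_univ (w pk)) isOpen_univ
  obtain ⟨φW, hφW⟩ := Spec.map_surjective (hW.fromSpec ≫ pullback.snd f g)
  letI : Algebra A Γ(pullback f g, W) := φW.hom.toAlgebra
  haveI : Algebra.FiniteType A Γ(pullback f g, W) := by
    haveI : LocallyOfFiniteType (pullback.snd f g) := MorphismProperty.pullback_snd f g inferInstance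
    haveI : LocallyOfFiniteType (Spec.map φW) := by rw [hφW]; infer_instance
    exact RingHom.finiteType_algebraMap.1 ((HasRingHomProperty.Spec_iff (P := @LocallyOfFiniteType)).1 ‹_›)
  obtain ⟨w', hw'⟩ : ∃ w', w' ≫ hW.fromSpec = w := ⟨_, IsOpenImmersion.lift_fac _ _ (by
    rintro _ ⟨p, rfl⟩
    rw [Subsingleton.elim p pk]
    exact hW.range_fromSpec.ge hwW)⟩
  obtain ⟨γ, rfl⟩ := Spec.map_surjective w'
  obtain ⟨P, rfl⟩ := hW.range_fromSpec.ge (hz.mem_open W.2 hwW)
  have hspec : P ⤳ Spec.map γ pk := hW.fromSpec.isOpenEmbedding.isInducing.specializes_iff.1 (by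
    rw [← Scheme.Hom.comp_apply, hw']; exact hz)
  have hle : P.asIdeal ≤ RingHom.ker γ.hom := by
    intro b hb
    have h1 : γ.hom b ∈ pk.asIdeal := (PrimeSpectrum.le_iff_specializes P (Spec.map γ pk)).2 hspec hb
    rw [RingHom.mem_ker]
    by_contra h0
    exact pk.2.ne_top (Ideal.eq_top_of_isUnit_mem _ h1 (isUnit_iff_ne_zero.2 h0))
  have hγ : γ.hom.comp (algebraMap A Γ(pullback f g, W)) = IsLocalRing.residue A := by
    have : Spec.map (φW ≫ γ) = Spec.map (CommRingCat.ofHom (IsLocalRing.residue A)) := by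
      rw [Spec.map_comp, hφW, ← Category.assoc, hw', pullback.lift_snd]
    exact congrArg CommRingCat.Hom.hom (Spec.map_injective this)
  let π := Ideal.Quotient.mk P.asIdeal
  have hinj : Function.Injective (algebraMap A (Γ(pullback f g, W) ⧸ P.asIdeal)) := by
    refine (injective_iff_map_eq_zero _).2 fun a ha => ?_
    have h1 : π (φW.hom a) = 0 := ha
    have h1' : φW.hom a ∈ P.asIdeal := Ideal.Quotient.eq_zero_iff_mem.1 h1
    have h2 : a ∈ (Spec.map φW P).asIdeal := h1'
    rw [hφW, Scheme.Hom.comp_apply, hzgen] at h2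
    exact h2
  obtain ⟨B, _, _, _, ψ, hψ, v, hfin, hv, hres⟩ := exists_lift_finite_extension A (Γ(pullback f g, W) ⧸ P.asIdeal) hinj
    (Ideal.Quotient.lift P.asIdeal γ.hom fun b hb => hle hb) (by
      ext a; exact RingHom.congr_fun hγ a)
  let vW : Spec (CommRingCat.of B) ⟶ pullback f g := Spec.map (CommRingCat.ofHom (v.comp π)) ≫ hW.fromSpec
  have hv₂ : vW ≫ pullback.snd f g = Spec.map (CommRingCat.ofHom ψ) := by
    rw [Category.assoc, ← hφW, ← Spec.map_comp]
    congr 1
    refine CommRingCat.hom_ext (RingHom.ext fun a => ?_)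
    exact RingHom.congr_fun hv a
  refine ⟨CommRingCat.of B, inferInstance, inferInstance, ψ, hψ, vW ≫ pullback.fst f g, hfin, ?_, ?_⟩
  · rw [Category.assoc, pullback.condition, ← Category.assoc, hv₂]
  · have hkey : Spec.map (CommRingCat.ofHom (IsLocalRing.ResidueField.map ψ)) ≫ w =
        Spec.map (CommRingCat.ofHom (IsLocalRing.residue B)) ≫ vW := by
      rw [← hw', ← Category.assoc, ← Spec.map_comp, ← Category.assoc, ← Spec.map_comp]
      congr 2
      refine CommRingCat.hom_ext (RingHom.ext fun b => ?_)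
      exact (RingHom.congr_fun hres (π b)).symm
    rw [← Category.assoc, ← hkey, Category.assoc, pullback.lift_fst]

theorem univOpenAt_of_lifts [IsLocallyNoetherian Y] (f : X ⟶ Y) [LocallyOfFiniteType f] (x : X)
    (h : ∀ (A : Type u) [CommRing A] [IsDomain A] [IsDiscreteValuationRing A]
      [IsAdicComplete (IsLocalRing.maximalIdeal A) A] [IsAlgClosed (IsLocalRing.ResidueField A)]
      (g : Spec (CommRingCat.of A) ⟶ Y), g (IsLocalRing.closedPoint A) = f x →
      ∀ u₀ : Spec (CommRingCat.of (IsLocalRing.ResidueField A)) ⟶ X,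
        u₀ ≫ f = Spec.map (CommRingCat.ofHom (IsLocalRing.residue A)) ≫ g → x ∈ Set.range u₀ →
        ∃ (B : CommRingCat.{u}) (_ : IsDomain B) (_ : IsDiscreteValuationRing B) (φ : A →+* B)
          (_ : IsLocalHom φ) (v : Spec B ⟶ X),
          φ.Finite ∧ v ≫ f = Spec.map (CommRingCat.ofHom φ) ≫ g ∧
          Spec.map (CommRingCat.ofHom (IsLocalRing.ResidueField.map φ)) ≫ u₀ =
            Spec.map (CommRingCat.ofHom (IsLocalRing.residue B)) ≫ v) :
    EGA43.IsUnivOpenAt f x := by
  refine univOpenAt_of_dvr f x fun D _ _ _ g hg x' hx' hc => ?_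
  let K := AlgebraicClosure ((pullback f g).residueField x')
  let p : Spec (CommRingCat.of K) ⟶ pullback f g :=
    Spec.map (CommRingCat.ofHom (algebraMap ((pullback f g).residueField x') K)) ≫ (pullback f g).fromSpecResidueField x'
  have hp : ∀ a, p a = x' := fun a => by
    rw [Scheme.Hom.comp_apply, Scheme.fromSpecResidueField_apply]
  obtain ⟨θ, hθ⟩ := Spec.map_surjective (p ≫ pullback.snd f g)
  haveI : Subsingleton (Spec (CommRingCat.of K)) := inferInstanceAs (Subsingleton (PrimeSpectrum K))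
  have hker : RingHom.ker θ.hom = IsLocalRing.maximalIdeal D := by
    have h1 : (Spec.map θ (IsLocalRing.closedPoint K)).asIdeal = IsLocalRing.maximalIdeal D := by
      rw [hθ, Scheme.Hom.comp_apply, hp, hc]
      rfl
    rw [← h1]
    show _ = Ideal.comap θ.hom (IsLocalRing.maximalIdeal K)
    rw [IsLocalRing.maximalIdeal_eq_bot, RingHom.ker_eq_comap_bot]
  obtain ⟨A, _, _, _, _, φ, ψ, hφinj, hφloc, hψ, hψφ⟩ := exists_complete_extension D K θ.hom hker
  haveI := hφloc
  let ρ : IsLocalRing.ResidueField A ≃+* K :=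
    RingEquiv.ofBijective (Ideal.Quotient.lift (IsLocalRing.maximalIdeal A) ψ fun a ha => by
      have := (IsLocalRing.eq_maximalIdeal (RingHom.ker_isMaximal_of_surjective ψ hψ)).ge ha
      exact this)
      ⟨RingHom.injective _, Ideal.Quotient.lift_surjective_of_surjective _ _ hψ⟩
  haveI : IsAlgClosed (IsLocalRing.ResidueField A) := IsAlgClosed.of_ringEquiv K _ ρ.symm
  let pA : Spec (CommRingCat.of (IsLocalRing.ResidueField A)) ⟶ pullback f g :=
    Spec.map (CommRingCat.ofHom ρ.symm.toRingHom) ≫ p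
  let gA := Spec.map (CommRingCat.ofHom φ) ≫ g
  have hpA : pA ≫ pullback.snd f g = Spec.map (CommRingCat.ofHom (IsLocalRing.residue A)) ≫ Spec.map (CommRingCat.ofHom φ) := by
    rw [Category.assoc, ← hθ, ← Spec.map_comp, ← Spec.map_comp]
    congr 1
    refine CommRingCat.hom_ext (RingHom.ext fun d => ?_)
    show ρ.symm (θ.hom d) = IsLocalRing.residue A (φ d)
    rw [← hψφ, RingEquiv.symm_apply_eq]
    rfl
  have hpa : ∀ a, pA a = x' := fun a => by rw [Scheme.Hom.comp_apply, hp]
  have hgA : gA (IsLocalRing.closedPoint A) = f x := by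
    rw [Scheme.Hom.comp_apply, ← hg]
    congr 1
    exact IsLocalRing.comap_closedPoint φ
  obtain ⟨B, _, _, χ, hχ, v, hfin, hv, hres⟩ := h A gA hgA (pA ≫ pullback.fst f g) (by
      rw [Category.assoc, pullback.condition, ← Category.assoc, hpA, Category.assoc])
    ⟨IsLocalRing.closedPoint _, by rw [Scheme.Hom.comp_apply, hpa, hx']⟩
  let q : Spec B ⟶ pullback f g := pullback.lift v (Spec.map (CommRingCat.ofHom (χ.comp φ))) (by
    rw [hv, ← Category.assoc, ← Spec.map_comp]
    rfl)
  have hχinj : Function.Injective χ := by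
    rw [RingHom.injective_iff_ker_eq_bot]
    by_contra hne
    haveI := RingHom.ker_isPrime χ
    letI : Algebra A B := χ.toAlgebra
    haveI : Module.Finite A B := hfin
    haveI hm : (RingHom.ker χ).IsMaximal := (RingHom.ker_isPrime χ).isMaximal hne
    haveI : ((⊥ : Ideal B).comap (algebraMap A B)).IsMaximal := by
      rw [← RingHom.ker_eq_comap_bot]
      exact hm
    exact IsDiscreteValuationRing.not_a_field B
      (IsLocalRing.eq_maximalIdeal (Ideal.isMaximal_of_isIntegral_of_isMaximal_comap (⊥ : Ideal B) ‹_›)).symm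
  let η := HTop.gen B
  refine ⟨q η, ?_, fun hcl => ?_⟩
  · have hsp : η ⤳ IsLocalRing.closedPoint B := IsLocalRing.specializes_closedPoint η
    have hqc : q (IsLocalRing.closedPoint B) = x' := by
      have heq : Spec.map (CommRingCat.ofHom (IsLocalRing.residue B)) ≫ q =
          Spec.map (CommRingCat.ofHom (IsLocalRing.ResidueField.map χ)) ≫ pA := by
        refine pullback.hom_ext ?_ ?_
        · rw [Category.assoc, pullback.lift_fst, Category.assoc]
          exact hres.symm
        · rw [Category.assoc, pullback.lift_snd, Category.assoc, hpA, ← Spec.map_comp, ← Spec.map_comp, ← Spec.map_comp]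
          congr 1
      have hc' : Spec.map (CommRingCat.ofHom (IsLocalRing.residue B)) (IsLocalRing.closedPoint _) =
          IsLocalRing.closedPoint B := IsLocalRing.comap_closedPoint (IsLocalRing.residue B)
      rw [← hc', ← Scheme.Hom.comp_apply, heq, Scheme.Hom.comp_apply, hpa]
    exact hqc ▸ hsp.map q.continuous
  · rw [← Scheme.Hom.comp_apply, pullback.lift_snd] at hcl
    refine IsDiscreteValuationRing.not_a_field D ?_
    have h1 : Ideal.comap (χ.comp φ) (⊥ : Ideal B) = IsLocalRing.maximalIdeal D := congrArg PrimeSpectrum.asIdeal hcl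
    rw [← h1, ← RingHom.ker_eq_comap_bot, ← RingHom.injective_iff_ker_eq_bot]
    exact hχinj.comp hφinj

end GrothLib.UnivOpenAt6
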